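import Mathlib
import Groth.Prelude.Def_ConstAct
import Groth.Agent.RegLocal.Consequences

/-!
# Finite groups generated by pseudo-reflections acting on local rings

If a finite group of invertible order acts on a local domain `A` with residue field `k`, and is generated by elements `g`
for which the ideal of the `g • a - a` is principal inside the maximal ideal, then `A` is flat over the invariants.
-/

set_option autoImplicit false
set_option linter.style.haveILetI false
set_option linter.unusedSectionVars false
set_option backward.isDefEq.respectTransparency false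
universe u

open IsLocalRing TensorProduct

namespace Groth.Agent.PseudoReflLib

variable {k A G : Type u} [Field k] [CommRing A] [Algebra k A] [Group G] [MulSemiringAction G A] [SMulCommClass G k A]

local notation "𝒜" => ConstAct.inv k A G

variable (k A G) in
/-- The action of an element as a linear map over the invariants. -/
noncomputable def act (g : G) : A →ₗ[𝒜] A where
  toFun a := g • a
  map_add' := smul_add g
  map_smul' b a := by
    show g • ((b : A) * a) = (b : A) * g • a
    rw [smul_mul', (ConstAct.mem_inv k A G _).1 b.2 g]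

theorem act_apply (g : G) (a : A) : act k A G g a = g • a := rfl

variable [Fintype G]

variable (k A G) in
/-- The sum over the group. -/
noncomputable def tr : A →ₗ[𝒜] 𝒜 where
  toFun a := ⟨∑ g : G, g • a, (ConstAct.mem_inv k A G _).2 fun h => by
    rw [Finset.smul_sum]
    exact Fintype.sum_equiv (Equiv.mulLeft h) _ _ fun g => (mul_smul h g a).symm⟩
  map_add' a b := Subtype.ext (by
    show ∑ g : G, g • (a + b) = (∑ g : G, g • a) + ∑ g : G, g • b
    simp only [smul_add, Finset.sum_add_distrib])
  map_smul' b a := Subtype.ext (by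
    show ∑ g : G, g • ((b : A) * a) = (b : A) * ∑ g : G, g • a
    rw [Finset.mul_sum]
    exact Finset.sum_congr rfl fun g _ => (act k A G g).map_smul b a)

theorem tr_coe (a : A) : ((tr k A G a : 𝒜) : A) = ∑ g : G, g • a := rfl

theorem isUnit_natCast (hG : (Fintype.card G : k) ≠ 0) : IsUnit (Fintype.card G : A) := by
  rw [← map_natCast (algebraMap k A)]
  exact (IsUnit.mk0 _ hG).map _

theorem isNoetherianRing_inv [IsNoetherianRing A] (hG : (Fintype.card G : k) ≠ 0) : IsNoetherianRing 𝒜 := by
  have hu : IsUnit (Fintype.card G : 𝒜) := by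
    rw [← map_natCast (algebraMap k 𝒜)]; exact (IsUnit.mk0 _ hG).map _
  have key : ∀ I : Ideal 𝒜, (I.map (algebraMap 𝒜 A)).comap (algebraMap 𝒜 A) = I := by
    intro I
    refine le_antisymm (fun x hx => ?_) Ideal.le_comap_map
    have hgen : ∀ y ∈ I.map (algebraMap 𝒜 A), tr k A G y ∈ I := by
      intro y hy
      induction hy using Submodule.span_induction with
      | mem y hy =>
        obtain ⟨i, hi, rfl⟩ := hy
        rw [show algebraMap 𝒜 A i = i • (1 : A) from (mul_one _).symm, map_smul]
        exact I.mul_mem_right _ hi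
      | zero => rw [map_zero]; exact I.zero_mem
      | add y z _ _ hy hz => rw [map_add]; exact I.add_mem hy hz
      | smul c y hy' hy =>
        -- write `y` as a combination and use linearity
        have h2 : ∀ c : A, ∀ z ∈ I.map (algebraMap 𝒜 A), tr k A G (c * z) ∈ I := by
          intro c z hz
          induction hz using Submodule.span_induction generalizing c with
          | mem z hz =>
            obtain ⟨i, hi, rfl⟩ := hz
            rw [show c * algebraMap 𝒜 A i = i • c from mul_comm _ _, map_smul]
            exact I.mul_mem_right _ hi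
          | zero => rw [mul_zero, map_zero]; exact I.zero_mem
          | add y z _ _ hy hz => rw [mul_add, map_add]; exact I.add_mem (hy c) (hz c)
          | smul d z _ hz => rw [smul_eq_mul, ← mul_assoc]; exact hz _
        exact h2 c y hy'
    have h1 := hgen _ hx
    rw [show algebraMap 𝒜 A x = x • (1 : A) from (mul_one _).symm, map_smul,
      show tr k A G (1 : A) = (Fintype.card G : 𝒜) from Subtype.ext (by simp [tr_coe])] at h1
    exact (Ideal.mul_unit_mem_iff_mem I hu).1 h1
  rw [isNoetherianRing_iff, ← monotone_stabilizes_iff_noetherian]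
  intro f
  obtain ⟨n, hn⟩ := (monotone_stabilizes_iff_noetherian (R := A) (M := A)).2 (inferInstance : IsNoetherian A A)
    ⟨fun i => Ideal.map (algebraMap 𝒜 A) (f i), fun i j h => Ideal.map_mono (f.mono h)⟩
  exact ⟨n, fun m hm => by rw [← key (f n), ← key (f m)]; exact congrArg _ (hn m hm)⟩

variable [IsLocalRing A]

theorem isUnit_inv_of_isUnit (b : 𝒜) (hb : IsUnit (b : A)) : IsUnit b := by
  obtain ⟨u, hu⟩ := hb
  have h : ∀ g : G, g • ((↑u⁻¹ : A)) = ↑u⁻¹ := fun g => by
    have h1 : (b : A) * g • (↑u⁻¹ : A) = 1 := by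
      have := congrArg (g • ·) (show (b : A) * ↑u⁻¹ = 1 by rw [← hu, Units.mul_inv])
      simp only [smul_mul', smul_one, (ConstAct.mem_inv k A G _).1 b.2 g] at this
      exact this
    rw [← hu] at h1
    exact (Units.inv_eq_of_mul_eq_one_right h1).symm
  exact IsUnit.of_mul_eq_one ⟨↑u⁻¹, (ConstAct.mem_inv k A G _).2 h⟩ (Subtype.ext (by
    show (b : A) * ↑u⁻¹ = 1
    rw [← hu, Units.mul_inv]))

theorem isLocalRing_inv : IsLocalRing 𝒜 := by
  haveI : Nontrivial 𝒜 := ⟨⟨0, 1, fun h => zero_ne_one (congrArg Subtype.val h)⟩⟩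
  exact IsLocalRing.of_nonunits_add fun a b ha hb hab =>
    (IsLocalRing.nonunits_add (R := A) (fun h => ha (isUnit_inv_of_isUnit a h)) (fun h => hb (isUnit_inv_of_isUnit b h)))
      (hab.map (𝒜).subtype)

theorem isLocalHom_inv : IsLocalHom (algebraMap 𝒜 A) := ⟨fun b hb => isUnit_inv_of_isUnit b hb⟩

/-- An element whose displacement ideal is principal. -/
def IsPrincipalDispl (g : G) : Prop :=
  ∃ a ∈ maximalIdeal A, ∀ x : A, ∃ y, g • x - x = a * y

theorem flat_of_principalDispl [IsNoetherianRing A] [IsDomain A] (hG : (Fintype.card G : k) ≠ 0)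
    [Module.Finite 𝒜 A] (S : Set G) (hS : ∀ g ∈ S, IsPrincipalDispl (A := A) g) (hgen : Subgroup.closure S = ⊤) :
    Module.Flat 𝒜 A := by
  haveI := isNoetherianRing_inv (k := k) (A := A) (G := G) hG
  haveI := isLocalRing_inv (k := k) (A := A) (G := G)
  let m := maximalIdeal 𝒜
  let μ : A ⊗[𝒜] m →ₗ[A] A :=
    (AlgebraTensorModule.rid 𝒜 A A).toLinearMap ∘ₗ AlgebraTensorModule.map LinearMap.id m.subtype
  have hμ : ∀ (a : A) (b : m), μ (a ⊗ₜ b) = (b : 𝒜) • a := fun a b => rfl
  have hμf : ∀ (f : A →ₗ[𝒜] A) (t : A ⊗[𝒜] m), μ (f.rTensor m t) = f (μ t) := fun f t => by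
    induction t using TensorProduct.induction_on with
    | zero => simp
    | tmul a b => rw [LinearMap.rTensor_tmul, hμ, hμ, map_smul]
    | add s t hs ht => simp only [map_add, hs, ht]
  let T : Submodule A (A ⊗[𝒜] m) := LinearMap.ker μ
  haveI : Module.Finite A (A ⊗[𝒜] m) := inferInstance
  let K : Submodule A (A ⊗[𝒜] m) := maximalIdeal A • T
  let φ : G → (A ⊗[𝒜] m →ₗ[𝒜] A ⊗[𝒜] m) := fun g => (act k A G g).rTensor m
  have hφT : ∀ g, ∀ t ∈ T, φ g t ∈ T := fun g t ht => by
    show μ _ = 0
    rw [hμf, show μ t = 0 from ht, map_zero]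
  have hφone : ∀ t, φ 1 t = t := fun t => by
    show (act k A G 1).rTensor m t = t
    rw [show act k A G 1 = LinearMap.id from LinearMap.ext fun a => one_smul G a, LinearMap.rTensor_id, LinearMap.id_apply]
  have hφmul : ∀ g h t, φ (g * h) t = φ g (φ h t) := fun g h t => by
    show (act k A G (g * h)).rTensor m t = _
    rw [show act k A G (g * h) = (act k A G g).comp (act k A G h) from LinearMap.ext fun a => mul_smul g h a,
      LinearMap.rTensor_comp_apply]
  have hone : ∀ g ∈ S, ∀ t ∈ T, φ g t - t ∈ K := by
    intro g hg t ht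
    obtain ⟨a, ha, hy⟩ := hS g hg
    by_cases h0 : a = 0
    · have : act k A G g = LinearMap.id := LinearMap.ext fun x => by
        obtain ⟨y, hy⟩ := hy x
        rw [h0, zero_mul, sub_eq_zero] at hy
        exact hy
      show (act k A G g).rTensor m t - t ∈ K
      rw [this, LinearMap.rTensor_id, LinearMap.id_apply, sub_self]
      exact K.zero_mem
    · choose y hy using hy
      let Δ : A →ₗ[𝒜] A :=
        { toFun := y
          map_add' := fun x z => mul_left_cancel₀ h0 (by
            rw [mul_add, ← hy, ← hy, ← hy, smul_add]; ring)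
          map_smul' := fun b x => mul_left_cancel₀ h0 (by
            show a * y ((b : A) * x) = a * ((b : A) * y x)
            rw [← hy, smul_mul', (ConstAct.mem_inv k A G _).1 b.2 g, mul_left_comm, ← hy]
            ring) }
      have h1 : ∀ t : A ⊗[𝒜] m, φ g t - t = a • Δ.rTensor m t := fun t => by
        induction t using TensorProduct.induction_on with
        | zero => simp [φ]
        | tmul x b =>
          show (g • x) ⊗ₜ b - x ⊗ₜ b = a • (y x ⊗ₜ b)
          rw [← TensorProduct.sub_tmul, TensorProduct.smul_tmul', smul_eq_mul, ← hy]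
        | add s t hs ht =>
          simp only [φ] at hs ht ⊢
          rw [map_add, map_add, smul_add, ← hs, ← ht]
          abel
      rw [h1]
      refine Submodule.smul_mem_smul ha ?_
      show μ _ = 0
      rw [hμf, show μ t = 0 from ht, map_zero]
  have hall : ∀ g : G, ∀ t ∈ T, φ g t - t ∈ K := by
    intro g
    have hg : g ∈ Subgroup.closure S := by rw [hgen]; trivial
    induction hg using Subgroup.closure_induction with
    | mem g hg => exact hone g hg
    | one => intro t _; rw [hφone, sub_self]; exact K.zero_mem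
    | mul g h _ _ hg hh =>
      intro t ht
      rw [hφmul, show φ g (φ h t) - t = (φ g (φ h t) - φ h t) + (φ h t - t) by abel]
      exact K.add_mem (hg _ (hφT h t ht)) (hh t ht)
    | inv g _ hg =>
      intro t ht
      have h1 := hg _ (hφT g⁻¹ t ht)
      rw [← hφmul, mul_inv_cancel, hφone] at h1
      rw [show φ g⁻¹ t - t = -(t - φ g⁻¹ t) by abel]
      exact K.neg_mem h1
  -- the average kills `T`
  have hsum : ∀ t ∈ T, ∑ g : G, φ g t = 0 := by
    intro t ht
    have e : ∑ g : G, φ g t = (Algebra.linearMap 𝒜 A).rTensor m ((tr k A G).rTensor m t) := by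
      induction t using TensorProduct.induction_on with
      | zero => simp
      | tmul x b =>
        show ∑ g : G, (g • x) ⊗ₜ[𝒜] b = ((tr k A G x : 𝒜) : A) ⊗ₜ b
        rw [← TensorProduct.sum_tmul, tr_coe]
      | add s t hs ht' =>
        have key : ∀ t : A ⊗[𝒜] m, ∑ g : G, φ g t = (Algebra.linearMap 𝒜 A).rTensor m ((tr k A G).rTensor m t) := fun t => by
          induction t using TensorProduct.induction_on with
          | zero => simp
          | tmul x b =>
            show ∑ g : G, (g • x) ⊗ₜ[𝒜] b = ((tr k A G x : 𝒜) : A) ⊗ₜ b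
            rw [← TensorProduct.sum_tmul, tr_coe]
          | add s t hs ht => simp only [map_add, Finset.sum_add_distrib, hs, ht]
        exact key _
    have h2 : ∀ t : A ⊗[𝒜] m, ((TensorProduct.lid 𝒜 m ((tr k A G).rTensor m t) : m) : 𝒜) = tr k A G (μ t) := fun t => by
      induction t using TensorProduct.induction_on with
      | zero => simp
      | tmul x b =>
        rw [LinearMap.rTensor_tmul, TensorProduct.lid_tmul, hμ, map_smul, Submodule.coe_smul, smul_eq_mul, smul_eq_mul, mul_comm]
      | add s t hs ht => simp only [map_add, Submodule.coe_add, hs, ht]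
    have h3 : (tr k A G).rTensor m t = 0 := (TensorProduct.lid 𝒜 m).injective (by
      rw [map_zero]
      exact Subtype.ext ((h2 t).trans (by rw [show μ t = 0 from ht, map_zero, Submodule.coe_zero])))
    rw [e, h3, map_zero]
  have hTK : T ≤ K := fun t ht => by
    have h1 : ∑ g : G, (φ g t - t) ∈ K := K.sum_mem fun g _ => hall g t ht
    rw [Finset.sum_sub_distrib, hsum t ht, zero_sub, neg_mem_iff, Finset.sum_const, Finset.card_univ,
      ← Nat.cast_smul_eq_nsmul A] at h1
    obtain ⟨u, hu⟩ := isUnit_natCast (A := A) hG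
    rw [← hu] at h1
    have := K.smul_mem (↑u⁻¹ : A) h1
    rwa [smul_smul, Units.inv_mul, one_smul] at this
  have hT : T = ⊥ := Submodule.eq_bot_of_le_smul_of_le_jacobson_bot (maximalIdeal A) T
    (IsNoetherian.noetherian T) hTK (maximalIdeal_le_jacobson _)
  have hinj : Function.Injective (m.subtype.rTensor A) := by
    refine (injective_iff_map_eq_zero _).2 fun z hz => (TensorProduct.comm 𝒜 m A).injective ?_
    rw [map_zero]
    have hz' : μ (TensorProduct.comm 𝒜 m A z) = TensorProduct.lid 𝒜 A (m.subtype.rTensor A z) := by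
      clear hz
      induction z using TensorProduct.induction_on with
      | zero => simp
      | tmul b a => rfl
      | add s t hs ht => simp only [map_add, hs, ht]
    exact (Submodule.eq_bot_iff T).1 hT _ (show μ _ = 0 by rw [hz', hz, map_zero])
  haveI : Module.Free 𝒜 A := by
    haveI := Module.finitePresentation_of_finite 𝒜 A
    exact Module.free_of_maximalIdeal_rTensor_injective hinj
  infer_instance

/-- An element with at most one-dimensional displacement on the cotangent space has principal displacement ideal. -/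
theorem isPrincipalDispl_of_rank [IsNoetherianRing A] (hG : (Fintype.card G : k) ≠ 0)
    (hres : ∀ x : A, ∃ c : k, x - algebraMap k A c ∈ maximalIdeal A) (g : G) (w : A)
    (hw : ∀ x : A, ∃ c : k, g • x - x - algebraMap k A c * w ∈ maximalIdeal A ^ 2) :
    IsPrincipalDispl (A := A) g := by
  classical
  have hfix : ∀ (h : G) (c : k), h • algebraMap k A c = algebraMap k A c := fun h c => smul_algebraMap h c
  have hM : ∀ (h : G) (x : A), x ∈ maximalIdeal A → h • x ∈ maximalIdeal A := fun h x hx => by
    rw [mem_maximalIdeal] at hx ⊢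
    exact fun hu => hx (by simpa using hu.map (MulSemiringAction.toRingHom G A h⁻¹))
  have hM2 : ∀ (h : G) (x : A), x ∈ maximalIdeal A ^ 2 → h • x ∈ maximalIdeal A ^ 2 := fun h x hx => by
    have h1 : (maximalIdeal A ^ 2).map (MulSemiringAction.toRingHom G A h) ≤ maximalIdeal A ^ 2 := by
      rw [Ideal.map_pow]
      exact Ideal.pow_right_mono ((Ideal.map_le_iff_le_comap (f := MulSemiringAction.toRingHom G A h)).2 fun y hy => Ideal.mem_comap.2 (hM h y hy)) 2
    exact h1 (Ideal.mem_map_of_mem _ hx)
  have hJM : ∀ x : A, g • x - x ∈ maximalIdeal A := fun x => by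
    obtain ⟨c, hc⟩ := hres x
    have := sub_mem (hM g _ hc) hc
    rwa [smul_sub, hfix, sub_sub_sub_cancel_right] at this
  -- a vector spanning the displacement on the cotangent space
  obtain ⟨v, hvM, hv⟩ : ∃ v ∈ maximalIdeal A, ∀ x ∈ maximalIdeal A, ∃ c : k,
      g • x - x - algebraMap k A c * (g • v - v) ∈ maximalIdeal A ^ 2 := by
    by_cases h : ∀ x ∈ maximalIdeal A, g • x - x ∈ maximalIdeal A ^ 2
    · exact ⟨0, zero_mem _, fun x hx => ⟨0, by simpa using h x hx⟩⟩
    · simp only [not_forall] at h
      obtain ⟨v, hvM, hv⟩ := h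
      refine ⟨v, hvM, fun x _ => ?_⟩
      obtain ⟨cv, hcv⟩ := hw v
      obtain ⟨cx, hcx⟩ := hw x
      have hcv0 : cv ≠ 0 := fun h0 => hv (by simpa [h0] using hcv)
      refine ⟨cx / cv, ?_⟩
      have : g • x - x - algebraMap k A (cx / cv) * (g • v - v) =
          (g • x - x - algebraMap k A cx * w) - algebraMap k A (cx / cv) * (g • v - v - algebraMap k A cv * w) := by
        have e : algebraMap k A (cx / cv) * algebraMap k A cv = algebraMap k A cx := by
          rw [← map_mul, div_mul_cancel₀ _ hcv0]
        rw [← e]; ring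
      rw [this]
      exact sub_mem hcx (Ideal.mul_mem_left _ _ hcv)
  set a := g • v - v with ha
  -- invariant generators
  set N := Subgroup.zpowers g with hN
  have hNu : IsUnit (Fintype.card N : A) := by
    rw [← map_natCast (algebraMap k A)]
    refine (IsUnit.mk0 _ fun h => hG ?_).map _
    obtain ⟨d, hd⟩ := Subgroup.card_subgroup_dvd_card N
    rw [Nat.card_eq_fintype_card, Nat.card_eq_fintype_card] at hd
    rw [hd, Nat.cast_mul, h, zero_mul]
  let U : Set A := {x | x ∈ maximalIdeal A ∧ g • x = x}
  have hgen : maximalIdeal A ≤ Ideal.span (insert v U) := by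
    refine Submodule.le_of_le_smul_of_le_jacobson_bot (I := maximalIdeal A) (IsNoetherian.noetherian _)
      (maximalIdeal_le_jacobson _) fun x hx => ?_
    obtain ⟨c, hc⟩ := hv x hx
    set y := x - algebraMap k A c * v with hy
    have hgy : g • y - y ∈ maximalIdeal A ^ 2 := by
      rw [hy, smul_sub, smul_mul', hfix]
      rwa [show g • x - algebraMap k A c * g • v - (x - algebraMap k A c * v) = g • x - x - algebraMap k A c * a by
        rw [ha]; ring]
    have hy' : y ∈ maximalIdeal A := sub_mem hx (Ideal.mul_mem_left _ _ hvM)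
    have hall : ∀ h : N, (h : G) • y - y ∈ maximalIdeal A ^ 2 := by
      rintro ⟨h, hh⟩
      have hh' : h ∈ Subgroup.closure ({g} : Set G) := by rwa [← Subgroup.zpowers_eq_closure]
      show h • y - y ∈ _
      clear hh
      induction hh' using Subgroup.closure_induction with
      | mem h hh => rw [Set.mem_singleton_iff.1 hh]; exact hgy
      | one => simp
      | mul h h' _ _ e e' =>
        rw [show (h * h') • y - y = h • (h' • y - y) + (h • y - y) by rw [smul_sub h (h' • y) y, mul_smul h h' y]; ring]
        exact add_mem (hM2 h _ e') e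
      | inv h _ e =>
        have := hM2 h⁻¹ _ e
        rw [smul_sub, inv_smul_smul] at this
        rw [← neg_mem_iff, neg_sub]
        exact this
    obtain ⟨u₀, hu₀⟩ := hNu
    set s := (↑u₀⁻¹ : A) * ∑ h : N, (h : G) • y with hs
    have hsU : s ∈ U := by
      refine ⟨Ideal.mul_mem_left _ _ (Ideal.sum_mem _ fun h _ => hM _ _ hy'), ?_⟩
      have hinv : g • (↑u₀⁻¹ : A) = ↑u₀⁻¹ := by
        have h1 : g • (u₀ : A) * g • (↑u₀⁻¹ : A) = 1 := by rw [← smul_mul', Units.mul_inv, smul_one]
        rw [hu₀, show (Fintype.card N : A) = algebraMap k A (Fintype.card N : k) from (map_natCast _ _).symm, hfix,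
          map_natCast, ← hu₀] at h1
        exact (Units.inv_eq_of_mul_eq_one_right h1).symm
      rw [hs, smul_mul', hinv, Finset.smul_sum]
      congr 1
      exact Fintype.sum_equiv (Equiv.mulLeft (⟨g, Subgroup.mem_zpowers g⟩ : N)) _ _ fun h => (mul_smul g (h : G) y).symm
    have hdiff : y - s ∈ maximalIdeal A ^ 2 := by
      have e : y - s = -((↑u₀⁻¹ : A) * ∑ h : N, ((h : G) • y - y)) := by
        rw [hs, Finset.sum_sub_distrib, mul_sub, Finset.sum_const, Finset.card_univ, nsmul_eq_mul, ← hu₀, ← mul_assoc,
          Units.inv_mul, one_mul]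
        ring
      rw [e]
      exact neg_mem (Ideal.mul_mem_left _ _ (Ideal.sum_mem _ fun h _ => hall h))
    rw [show x = (algebraMap k A c * v + s) + (y - s) by rw [hy]; ring]
    refine Submodule.add_mem_sup (add_mem (Ideal.mul_mem_left _ _ (Ideal.subset_span (Set.mem_insert _ _)))
      (Ideal.subset_span (Set.mem_insert_of_mem _ hsU))) ?_
    rwa [smul_eq_mul, ← pow_two]
  -- the displacement ideal
  set J := Ideal.span (Set.range fun x : A => g • x - x) with hJ
  have hJle : J ≤ Ideal.span {a} := by
    refine Submodule.le_of_le_smul_of_le_jacobson_bot (I := maximalIdeal A) (IsNoetherian.noetherian _)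
      (maximalIdeal_le_jacobson _) (Ideal.span_le.2 ?_)
    rintro _ ⟨x, rfl⟩
    obtain ⟨c, hc⟩ := hres x
    have hd : ∀ z : A, g • z - z ∈ J := fun z => Ideal.subset_span ⟨z, rfl⟩
    suffices H : ∀ z ∈ Ideal.span (insert v U), g • z - z ∈ Ideal.span {a} ⊔ maximalIdeal A • J by
      have h1 := H _ (hgen hc)
      rwa [smul_sub, hfix, sub_sub_sub_cancel_right] at h1
    intro z hz
    induction hz using Submodule.span_induction with
    | mem z hz =>
      rcases Set.mem_insert_iff.1 hz with rfl | hz
      · exact Submodule.mem_sup_left (Ideal.mem_span_singleton_self a)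
      · rw [hz.2, sub_self]; exact zero_mem _
    | zero => simp
    | add y z _ _ hy hz => rw [smul_add, add_sub_add_comm]; exact add_mem hy hz
    | smul r z hz e =>
      show g • (r * z) - r * z ∈ _
      rw [smul_mul', show g • r * g • z - r * z = g • r * (g • z - z) + z * (g • r - r) by ring]
      refine add_mem (Ideal.mul_mem_left _ _ e) (Submodule.mem_sup_right (Submodule.smul_mem_smul ?_ (hd r)))
      refine Ideal.span_le.2 ?_ hz
      rintro y hy
      rcases Set.mem_insert_iff.1 hy with rfl | hy
      · exact hvM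
      · exact hy.1
  refine ⟨a, hJM v, fun x => ?_⟩
  obtain ⟨y, hy⟩ := Ideal.mem_span_singleton'.1 (hJle (Ideal.subset_span ⟨x, rfl⟩))
  exact ⟨y, by rw [mul_comm]; exact hy.symm⟩

end Groth.Agent.PseudoReflLib
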